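import Cfsg.Agent.FG78.WreathD8.Model
import Cfsg.Prelude.Def_Solvable

set_option autoImplicit false

/-! A `D₈ ≀ C₂` subgroup of a 2-group of sectional rank at most four. -/

namespace Cfsg.Agent.FG78.WreathD8

open Subgroup
open scoped commutatorElement

variable {S : Type*} [Group S]

/-- The data: an embedding of `W` and the rank condition. -/
structure Ctx (S : Type*) [Group S] where
  φ : W →* S
  inj : Function.Injective φ
  p2 : IsPGroup 2 S
  rank : ∀ (H K : Subgroup S), K ≤ H → (∀ h ∈ H, ∀ k ∈ K, h * k * h⁻¹ ∈ K) →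
    (∀ g ∈ H, ∀ h ∈ H, g * h * g⁻¹ * h⁻¹ ∈ K) → (∀ h ∈ H, h * h ∈ K) →
    Nat.card H ≤ 16 * Nat.card K

namespace Ctx

variable (c : Ctx S)

/-- the image -/
def P : Subgroup S := c.φ.range

noncomputable def iso : W ≃* c.P := MonoidHom.ofInjective c.inj

theorem phi_mem (w : W) : c.φ w ∈ c.P := ⟨w, rfl⟩

theorem conj_mem {g : S} (hg : g ∈ normalizer (c.P : Set S)) (w : W) :
    g * c.φ w * g⁻¹ ∈ c.P :=
  (Subgroup.mem_normalizer_iff.mp hg _).mp (c.phi_mem w)

noncomputable def pull {g : S} (hg : g ∈ normalizer (c.P : Set S)) : W →* W :=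
  MonoidHom.mk' (fun w => c.iso.symm ⟨g * c.φ w * g⁻¹, c.conj_mem hg w⟩) (fun v w => by
    rw [← map_mul]
    congr 1
    exact Subtype.ext (by simp [map_mul]))

theorem phi_pull {g : S} (hg : g ∈ normalizer (c.P : Set S)) (w : W) :
    c.φ (c.pull hg w) = g * c.φ w * g⁻¹ := by
  have h := c.iso.apply_symm_apply (⟨g * c.φ w * g⁻¹, c.conj_mem hg w⟩ : c.P)
  exact congrArg Subtype.val h

theorem pull_inj {g : S} (hg : g ∈ normalizer (c.P : Set S)) : Function.Injective (c.pull hg) := by
  intro v w h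
  have := congrArg c.φ h
  rw [c.phi_pull, c.phi_pull] at this
  exact c.inj (mul_left_cancel (mul_right_cancel this))

theorem phi_mem_norm (w : W) : c.φ w ∈ normalizer (c.P : Set S) :=
  Subgroup.le_normalizer (c.phi_mem w)

/-- `α` permutes the two distinguished subgroups -/
theorem aut_cases {α : W →* W} (hα : Function.Injective α) {V : Subgroup W} (hV : Nat.card V = 16)
    (h1 : ∀ w ∈ V, w * w = 1) (h2 : ∀ w ∈ V, ∀ g : W, g * w * g⁻¹ * w = w * (g * w * g⁻¹)) :
    V.map α = VA ∨ V.map α = VB := by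
  have hα' : Function.Surjective α := Finite.surjective_of_injective hα
  have hU : ∀ u ∈ V.map α, u ∈ VA ∨ u ∈ VB := by
    rintro _ ⟨w, hw, rfl⟩
    refine good (α w) (by rw [← map_mul, h1 w hw, map_one]) fun i => ?_
    obtain ⟨d, hd⟩ := hα' (([t, a1, b1, a1 * b1, a2, b2] : List W).get i)
    simp only [← hd, ← map_inv, ← map_mul, h2 w hw d]
  have hc : Nat.card (V.map α) = 16 := by rw [Subgroup.card_map_of_injective hα, hV]
  by_cases hA : V.map α ≤ VA
  · exact Or.inl (Subgroup.eq_of_le_of_card_ge hA (by rw [hc, card_VA]))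
  · right
    obtain ⟨u, hu, huA⟩ := SetLike.not_le_iff_exists.mp hA
    refine Subgroup.eq_of_le_of_card_ge (fun v hv => ?_) (by rw [hc, card_VB])
    rcases hU v hv with hvA | hvB
    · rcases hU (u * v) (mul_mem hu hv) with h | h
      · exact absurd ((Subgroup.mul_mem_cancel_right _ hvA).mp h) huA
      · exact (Subgroup.mul_mem_cancel_left _ ((hU u hu).resolve_left huA)).mp h
    · exact hvB

theorem normal_of_gens {V : Subgroup W}
    (h : ∀ g ∈ ({a1, b1, a2, b2, t} : Set W), ∀ v ∈ V, g * v * g⁻¹ ∈ V) : V.Normal := by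
  rw [← Subgroup.normalizer_eq_top_iff, eq_top_iff, ← closure_gens, Subgroup.closure_le]
  intro g hg
  haveI : Finite (V : Set W) := Set.toFinite _
  exact Subgroup.mem_normalizer_fintype fun v hv => h g hg v hv

theorem VA_normal : VA.Normal := normal_of_gens fun g hg v hv => by
  have := memA_facts v hv
  simp only [Set.mem_insert_iff, Set.mem_singleton_iff] at hg
  rcases hg with rfl | rfl | rfl | rfl | rfl
  · exact this.2.2.2.1
  · exact this.2.2.2.2.2.1
  · exact this.2.2.2.2.1
  · exact this.2.2.2.2.2.2.1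
  · exact this.2.2.2.2.2.2.2

theorem VB_normal : VB.Normal := normal_of_gens fun g hg v hv => by
  have := memB_facts v hv
  simp only [Set.mem_insert_iff, Set.mem_singleton_iff] at hg
  rcases hg with rfl | rfl | rfl | rfl | rfl
  · exact this.2.2.2.1
  · exact this.2.2.2.2.2.1
  · exact this.2.2.2.2.1
  · exact this.2.2.2.2.2.2.1
  · exact this.2.2.2.2.2.2.2

theorem commute_in {V : Subgroup W} (hV : ∀ w ∈ V, w * w = 1) {v w : W} (hv : v ∈ V) (hw : w ∈ V) :
    v * w = w * v := by
  have hinv : ∀ u ∈ V, u⁻¹ = u := fun u hu => inv_eq_of_mul_eq_one_right (hV u hu)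
  calc v * w = (v * w)⁻¹ := (hinv _ (mul_mem hv hw)).symm
    _ = w * v := by rw [mul_inv_rev, hinv v hv, hinv w hw]

theorem cases_A {α : W →* W} (hα : Function.Injective α) : VA.map α = VA ∨ VA.map α = VB :=
  aut_cases hα card_VA (fun w hw => (memA_facts w hw).1) fun w hw g =>
    commute_in (fun u hu => (memA_facts u hu).1) (VA_normal.conj_mem w hw g) hw

theorem cases_B {α : W →* W} (hα : Function.Injective α) : VB.map α = VA ∨ VB.map α = VB :=
  aut_cases hα card_VB (fun w hw => (memB_facts w hw).1) fun w hw g =>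
    commute_in (fun u hu => (memB_facts u hu).1) (VB_normal.conj_mem w hw g) hw

theorem VA_ne_VB : VA ≠ VB := fun h => by
  have : a1 ∈ VB := h ▸ (show memA a1 by decide)
  exact absurd this (show ¬ memB a1 by decide)

theorem map_eq_B {α : W →* W} (hα : Function.Injective α) (h : VA.map α = VA) : VB.map α = VB :=
  (cases_B hα).resolve_left fun h' =>
    VA_ne_VB (Subgroup.map_injective hα (h.trans h'.symm))

theorem map_eq_A {α : W →* W} (hα : Function.Injective α) (h : VA.map α = VB) : VB.map α = VA :=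
  (cases_B hα).resolve_right fun h' =>
    VA_ne_VB (Subgroup.map_injective hα (h.trans h'.symm))

theorem aut_K {α : W →* W} (hα : Function.Injective α) {w : W} (hw : w ∈ K) : α w ∈ K := by
  obtain ⟨hA, hB⟩ := (inter_K w).mp hw
  refine (inter_K _).mpr ?_
  have mA := Subgroup.mem_map_of_mem α (show w ∈ VA from hA)
  have mB := Subgroup.mem_map_of_mem α (show w ∈ VB from hB)
  rcases cases_A hα with h | h
  · rw [h] at mA; rw [map_eq_B hα h] at mB
    exact ⟨mA, mB⟩
  · rw [h] at mA; rw [map_eq_A hα h] at mB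
    exact ⟨mB, mA⟩

theorem aut_ze {α : W →* W} (hα : Function.Injective α) : α ze = ze := by
  have hs : Function.Surjective α := Finite.surjective_of_injective hα
  have hc : ∀ g : W, α ze * g = g * α ze := fun g => by
    obtain ⟨d, rfl⟩ := hs g
    rw [← map_mul, ← map_mul, ze_central]
  refine (center_eq _ (hc _) (hc _) (hc _) (hc _) (hc _)).resolve_left fun h => ?_
  exact absurd (hα (h.trans (map_one α).symm)) (by decide)

theorem aut_za {α : W →* W} (hα : Function.Injective α) : α za = za ∨ α za = zb := by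
  refine K_dichotomy _ (aut_K hα (by decide)) (fun h => ?_) fun h => ?_
  · exact absurd (hα (h.trans (map_one α).symm)) (by decide)
  · exact absurd (hα (h.trans (aut_ze hα).symm)) (by decide)

theorem aut_zb {α : W →* W} (hα : Function.Injective α) (h : α za = za) : α zb = zb := by
  have e : za * zb = ze := by decide
  have := aut_ze hα
  rw [← e, map_mul, h] at this
  exact mul_left_cancel this

theorem aut_K_fix {α : W →* W} (hα : Function.Injective α) (h : α za = za) {w : W} (hw : w ∈ K) :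
    α w = w := by
  simp only [K, List.mem_cons, List.not_mem_nil, or_false] at hw
  rcases hw with rfl | rfl | rfl | rfl
  · exact map_one α
  · exact h
  · exact aut_zb hα h
  · exact aut_ze hα

theorem aut_not_K {α : W →* W} (hα : Function.Injective α) (h : α za = za) {w : W} (hw : w ∉ K) :
    α w ∉ K := fun hk => hw (hα (aut_K_fix hα h hk) ▸ hk)

/-- The four base generators under an automorphism fixing `za` and `VA`. -/
theorem aut_fix_base {α : W →* W} (hα : Function.Injective α) (hza : α za = za) (hA : VA.map α = VA) :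
    a1⁻¹ * α a1 ∈ K ∧ a2⁻¹ * α a2 ∈ K ∧ b1⁻¹ * α b1 ∈ K ∧ b2⁻¹ * α b2 ∈ K := by
  have hB := map_eq_B hα hA
  have ma : ∀ w, memA w → memA (α w) := fun w hw => (hA ▸ Subgroup.mem_map_of_mem α (show w ∈ VA from hw) : α w ∈ VA)
  have mb : ∀ w, memB w → memB (α w) := fun w hw => (hB ▸ Subgroup.mem_map_of_mem α (show w ∈ VB from hw) : α w ∈ VB)
  have hzb := aut_zb hα hza
  have hcA : ∀ (v z u : W), (∀ w, memB w → v * w * v⁻¹ * w⁻¹ = 1 ∨ v * w * v⁻¹ * w⁻¹ = z) →
      α z = z → memB u → α v * u * (α v)⁻¹ * u⁻¹ = 1 ∨ α v * u * (α v)⁻¹ * u⁻¹ = z := by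
    intro v z u hv hz hu
    obtain ⟨w, hw, rfl⟩ : u ∈ VB.map α := by rw [hB]; exact hu
    simp only [← map_inv, ← map_mul]
    rcases hv w hw with e | e <;> rw [e]
    · exact Or.inl (map_one α)
    · exact Or.inr hz
  have hcB : ∀ (v z u : W), (∀ w, memA w → v * w * v⁻¹ * w⁻¹ = 1 ∨ v * w * v⁻¹ * w⁻¹ = z) →
      α z = z → memA u → α v * u * (α v)⁻¹ * u⁻¹ = 1 ∨ α v * u * (α v)⁻¹ * u⁻¹ = z := by
    intro v z u hv hz hu
    obtain ⟨w, hw, rfl⟩ : u ∈ VA.map α := by rw [hA]; exact hu
    simp only [← map_inv, ← map_mul]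
    rcases hv w hw with e | e <;> rw [e]
    · exact Or.inl (map_one α)
    · exact Or.inr hz
  refine ⟨(selA _ (ma a1 (by decide)) (aut_not_K hα hza (by decide))).1
      (hcA a1 za b2 (fun w hw => (commA_a1 w hw).1) hza (by decide)),
    (selA _ (ma a2 (by decide)) (aut_not_K hα hza (by decide))).2
      (hcA a2 zb b1 (fun w hw => (commA_a1 w hw).2) hzb (by decide)),
    (selB _ (mb b1 (by decide)) (aut_not_K hα hza (by decide))).1
      (hcB b1 za a2 (fun w hw => (commB_b1 w hw).1) hza (by decide)),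
    (selB _ (mb b2 (by decide)) (aut_not_K hα hza (by decide))).2
      (hcB b2 zb a1 (fun w hw => (commB_b1 w hw).2) hzb (by decide))⟩

theorem aut_swap_base {α : W →* W} (hα : Function.Injective α) (hza : α za = za) (hA : VA.map α = VB) :
    b1⁻¹ * α a1 ∈ K ∧ b2⁻¹ * α a2 ∈ K ∧ a1⁻¹ * α b1 ∈ K ∧ a2⁻¹ * α b2 ∈ K := by
  have hB := map_eq_A hα hA
  have ma : ∀ w, memA w → memB (α w) := fun w hw => (hA ▸ Subgroup.mem_map_of_mem α (show w ∈ VA from hw) : α w ∈ VB)
  have mb : ∀ w, memB w → memA (α w) := fun w hw => (hB ▸ Subgroup.mem_map_of_mem α (show w ∈ VB from hw) : α w ∈ VA)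
  have hzb := aut_zb hα hza
  have hcA : ∀ (v z u : W), (∀ w, memB w → v * w * v⁻¹ * w⁻¹ = 1 ∨ v * w * v⁻¹ * w⁻¹ = z) →
      α z = z → memA u → α v * u * (α v)⁻¹ * u⁻¹ = 1 ∨ α v * u * (α v)⁻¹ * u⁻¹ = z := by
    intro v z u hv hz hu
    obtain ⟨w, hw, rfl⟩ : u ∈ VB.map α := by rw [hB]; exact hu
    simp only [← map_inv, ← map_mul]
    rcases hv w hw with e | e <;> rw [e]
    · exact Or.inl (map_one α)
    · exact Or.inr hz
  have hcB : ∀ (v z u : W), (∀ w, memA w → v * w * v⁻¹ * w⁻¹ = 1 ∨ v * w * v⁻¹ * w⁻¹ = z) →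
      α z = z → memB u → α v * u * (α v)⁻¹ * u⁻¹ = 1 ∨ α v * u * (α v)⁻¹ * u⁻¹ = z := by
    intro v z u hv hz hu
    obtain ⟨w, hw, rfl⟩ : u ∈ VA.map α := by rw [hA]; exact hu
    simp only [← map_inv, ← map_mul]
    rcases hv w hw with e | e <;> rw [e]
    · exact Or.inl (map_one α)
    · exact Or.inr hz
  refine ⟨(selB _ (ma a1 (by decide)) (aut_not_K hα hza (by decide))).1
      (hcA a1 za a2 (fun w hw => (commA_a1 w hw).1) hza (by decide)),
    (selB _ (ma a2 (by decide)) (aut_not_K hα hza (by decide))).2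
      (hcA a2 zb a1 (fun w hw => (commA_a1 w hw).2) hzb (by decide)),
    (selA _ (mb b1 (by decide)) (aut_not_K hα hza (by decide))).1
      (hcB b1 za b2 (fun w hw => (commB_b1 w hw).1) hza (by decide)),
    (selA _ (mb b2 (by decide)) (aut_not_K hα hza (by decide))).2
      (hcB b2 zb b1 (fun w hw => (commB_b1 w hw).2) hzb (by decide))⟩

variable [Finite S]

/-- adjust by `t` so that `za` is fixed -/
theorem exists_fix_za {g : S} (hg : g ∈ normalizer (c.P : Set S)) :
    ∃ (h : S) (hh : h ∈ normalizer (c.P : Set S)), h⁻¹ * g ∈ c.P ∧ c.pull hh za = za ∧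
      VA.map (c.pull hh) = VA.map (c.pull hg) := by
  rcases aut_za (c.pull_inj hg) with h | h
  · exact ⟨g, hg, by simp, h, rfl⟩
  · refine ⟨g * c.φ t, mul_mem hg (c.phi_mem_norm t), ?_, ?_, ?_⟩
    · rw [show (g * c.φ t)⁻¹ * g = (c.φ t)⁻¹ by group]
      exact inv_mem (c.phi_mem t)
    · apply c.inj
      rw [c.phi_pull]
      have e : t * za * t⁻¹ = zb := by decide
      have h1 := c.phi_pull hg zb
      have h2 : c.pull hg zb = za := by
        have e1 : za * zb = ze := by decide
        have := aut_ze (c.pull_inj hg)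
        rw [← e1, map_mul, h] at this
        exact mul_left_cancel (this.trans (by decide : za * zb = zb * za))
      rw [h2, ← e] at h1
      refine Eq.trans ?_ h1.symm
      simp [mul_assoc]
    · ext v
      constructor
      · rintro ⟨w, hw, rfl⟩
        refine ⟨t * w * t⁻¹, (memA_facts w hw).2.2.2.2.2.2.2, c.inj ?_⟩
        rw [c.phi_pull, c.phi_pull]
        simp [mul_assoc]
      · rintro ⟨w, hw, rfl⟩
        refine ⟨t * w * t⁻¹, (memA_facts w hw).2.2.2.2.2.2.2, c.inj ?_⟩
        rw [c.phi_pull, c.phi_pull]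
        have e : c.φ t * c.φ t = 1 := by rw [← map_mul, show t * t = 1 by decide, map_one]
        have e' : (c.φ t)⁻¹ = c.φ t := inv_eq_of_mul_eq_one_right e
        simp only [map_mul, map_inv, e', mul_inv_rev, mul_assoc]
        simp [← mul_assoc, e]

/-- The crucial exclusion. -/
theorem mem_of_sq {g : S} (hg : g ∈ normalizer (c.P : Set S)) (hA : VA.map (c.pull hg) = VA)
    (hsq : g * g ∈ c.P) : g ∈ c.P := by
  classical
  by_contra hgP
  obtain ⟨h, hh, hhg, hza, hAA⟩ := c.exists_fix_za hg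
  rw [hA] at hAA
  set α := c.pull hh with hαdef
  have hα := c.pull_inj hh
  have hhP : h ∉ c.P := fun h' => hgP (by
    have := mul_mem h' hhg
    rwa [mul_inv_cancel_left] at this)
  have hh2 : h * h ∈ c.P := by
    have e : h * h = (g * (h⁻¹ * g)⁻¹ * g⁻¹) * (g * g) * (h⁻¹ * g)⁻¹ := by group
    rw [e]
    exact mul_mem (mul_mem ((Subgroup.mem_normalizer_iff.mp hg _).mp (inv_mem hhg)) hsq) (inv_mem hhg)
  obtain ⟨k1, k2, k3, k4⟩ := aut_fix_base hα hza hAA
  have hfix2 : ∀ x : W, x⁻¹ * α x ∈ K → α (α x) = x := by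
    intro x hx
    have e : α x = x * (x⁻¹ * α x) := by group
    have e2 : (x⁻¹ * α x) * (x⁻¹ * α x) = 1 := (memA_facts _ ((inter_K _).mp hx).1).1
    rw [e, map_mul, aut_K_fix hα hza hx]
    nth_rw 1 [e]
    rw [mul_assoc, e2, mul_one]
  obtain ⟨m, hm⟩ := hh2
  have hmc : ∀ x : W, x⁻¹ * α x ∈ K → m * x = x * m := by
    intro x hx
    apply c.inj
    rw [map_mul, map_mul, hm]
    have := congrArg c.φ (hfix2 x hx)
    rw [c.phi_pull, c.phi_pull] at this
    conv_rhs => rw [← this]
    group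
  have hmK : m ∈ K := cent_base m (hmc _ k1) (hmc _ k3) (hmc _ k2) (hmc _ k4)
  set G0 : Set S := {c.φ a1, c.φ b1, c.φ a2, c.φ b2, h}
  set H := Subgroup.closure G0
  set K' : Subgroup S := (VA ⊓ VB).map c.φ
  have hK' : ∀ w : W, w ∈ K → c.φ w ∈ K' := fun w hw =>
    Subgroup.mem_map_of_mem c.φ (show w ∈ VA ⊓ VB from (inter_K w).mp hw)
  have hKc : ∀ z ∈ K', ∀ x ∈ G0, x * z = z * x := by
    rintro _ ⟨z, hz, rfl⟩ x hx
    have hzK : z ∈ K := (inter_K z).mpr hz
    simp only [G0, Set.mem_insert_iff, Set.mem_singleton_iff] at hx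
    rcases hx with rfl | rfl | rfl | rfl | rfl
    · rw [← map_mul, ← map_mul, (K_comm z hzK).1]
    · rw [← map_mul, ← map_mul, (K_comm z hzK).2.1]
    · rw [← map_mul, ← map_mul, (K_comm z hzK).2.2.1]
    · rw [← map_mul, ← map_mul, (K_comm z hzK).2.2.2]
    · have := c.phi_pull hh z
      rw [aut_K_fix hα hza hzK] at this
      exact (eq_mul_inv_iff_mul_eq.mp this).symm
  have hcentral : ∀ z ∈ K', ∀ x ∈ H, x * z = z * x := fun z hz x hx => by
    have : H ≤ centralizer ({z} : Set S) := (Subgroup.closure_le _).mpr fun y hy =>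
      Subgroup.mem_centralizer_singleton_iff.mpr (hKc z hz y hy)
    exact Subgroup.mem_centralizer_singleton_iff.mp (this hx)
  have hKH : K' ≤ H := by
    rintro _ ⟨z, hz, rfl⟩
    have hzK : z ∈ K := (inter_K z).mpr hz
    have h1 : c.φ za ∈ H := by
      rw [show za = (a1 * b1) * (a1 * b1) by decide]
      simp only [map_mul]
      exact mul_mem (mul_mem (Subgroup.subset_closure (by simp [G0])) (Subgroup.subset_closure (by simp [G0])))
        (mul_mem (Subgroup.subset_closure (by simp [G0])) (Subgroup.subset_closure (by simp [G0])))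
    have h2 : c.φ zb ∈ H := by
      rw [show zb = (a2 * b2) * (a2 * b2) by decide]
      simp only [map_mul]
      exact mul_mem (mul_mem (Subgroup.subset_closure (by simp [G0])) (Subgroup.subset_closure (by simp [G0])))
        (mul_mem (Subgroup.subset_closure (by simp [G0])) (Subgroup.subset_closure (by simp [G0])))
    simp only [K, List.mem_cons, List.not_mem_nil, or_false] at hzK
    rcases hzK with rfl | rfl | rfl | rfl
    · rw [map_one]; exact one_mem H
    · exact h1
    · exact h2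
    · rw [show ze = za * zb by decide, map_mul]; exact mul_mem h1 h2
  haveI hn : (K'.subgroupOf H).Normal := ⟨fun z hz x => by
    rw [Subgroup.mem_subgroupOf] at hz ⊢
    have e : ((x * z * x⁻¹ : H) : S) = (z : S) := by
      simp only [Subgroup.coe_mul, Subgroup.coe_inv, hcentral _ hz _ x.2, mul_inv_cancel_right]
    rw [e]; exact hz⟩
  let π := QuotientGroup.mk' (K'.subgroupOf H)
  set Gq : Set (H ⧸ K'.subgroupOf H) := π '' {x : H | (x : S) ∈ G0}
  have hgen : Subgroup.closure Gq = ⊤ := by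
    rw [show Gq = π '' ((Subtype.val : H → S) ⁻¹' G0) from rfl, ← MonoidHom.map_closure,
      Subgroup.closure_closure_coe_preimage, ← MonoidHom.range_eq_map]
    exact QuotientGroup.range_mk' _
  have hbK : ∀ x y : W, y * x * y⁻¹ * x⁻¹ ∈ K → c.φ y * c.φ x * (c.φ y)⁻¹ * (c.φ x)⁻¹ ∈ K' :=
    fun x y hxy => by simpa [map_mul, map_inv] using hK' _ hxy
  have hhK : ∀ x : W, x⁻¹ * α x ∈ K → h * c.φ x * h⁻¹ * (c.φ x)⁻¹ ∈ K' := fun x hx => by
    have e : α x * x⁻¹ ∈ K := by
      have h1 : α x * x⁻¹ = x * (x⁻¹ * α x) * x⁻¹ := by group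
      rw [h1]
      revert hx
      generalize x⁻¹ * α x = k
      intro hk
      exact (inter_K _).mpr ⟨VA_normal.conj_mem k ((inter_K k).mp hk).1 x,
        VB_normal.conj_mem k ((inter_K k).mp hk).2 x⟩
    simpa [map_mul, map_inv, hαdef, c.phi_pull] using hK' _ e
  have hcomm0 : ∀ x ∈ G0, ∀ y ∈ G0, x * y * x⁻¹ * y⁻¹ ∈ K' := by
    have hsw : ∀ x y : S, x * y * x⁻¹ * y⁻¹ ∈ K' → y * x * y⁻¹ * x⁻¹ ∈ K' := fun x y hxy => by
      have := inv_mem hxy
      simpa [mul_assoc] using this
    intro x hx y hy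
    simp only [G0, Set.mem_insert_iff, Set.mem_singleton_iff] at hx hy
    rcases hx with rfl | rfl | rfl | rfl | rfl <;> rcases hy with rfl | rfl | rfl | rfl | rfl <;>
      first
      | (exact hbK _ _ (by decide))
      | (exact hhK _ k1) | (exact hhK _ k2) | (exact hhK _ k3) | (exact hhK _ k4)
      | (exact hsw _ _ (hhK _ k1)) | (exact hsw _ _ (hhK _ k2)) | (exact hsw _ _ (hhK _ k3))
      | (exact hsw _ _ (hhK _ k4))
      | (simp [one_mem])
  have hcommQ : ∀ u ∈ Gq, ∀ v ∈ Gq, u * v = v * u := by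
    rintro _ ⟨x, hx, rfl⟩ _ ⟨y, hy, rfl⟩
    rw [← commutatorElement_eq_one_iff_mul_comm, ← map_commutatorElement, QuotientGroup.mk'_apply,
      QuotientGroup.eq_one_iff, Subgroup.mem_subgroupOf, commutatorElement_def]
    simpa using hcomm0 _ hx _ hy
  have hcomQ : ∀ u v : H ⧸ K'.subgroupOf H, u * v = v * u := fun u v => by
    haveI := Subgroup.isMulCommutative_closure hcommQ
    exact congrArg Subtype.val (mul_comm' (⟨u, hgen ▸ Subgroup.mem_top u⟩ : Subgroup.closure Gq)
      ⟨v, hgen ▸ Subgroup.mem_top v⟩)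
  have hsqQ : ∀ u : H ⧸ K'.subgroupOf H, u * u = 1 := by
    intro u
    have hu : u ∈ Subgroup.closure Gq := hgen ▸ Subgroup.mem_top u
    induction hu using Subgroup.closure_induction with
    | mem v hv =>
      obtain ⟨x, hx, rfl⟩ := hv
      rw [← map_mul, QuotientGroup.mk'_apply, QuotientGroup.eq_one_iff, Subgroup.mem_subgroupOf,
        Subgroup.coe_mul]
      simp only [G0, Set.mem_setOf_eq, Set.mem_insert_iff, Set.mem_singleton_iff] at hx
      rcases hx with e | e | e | e | e <;> rw [e]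
      · rw [← map_mul]; exact hK' _ (by decide)
      · rw [← map_mul]; exact hK' _ (by decide)
      · rw [← map_mul]; exact hK' _ (by decide)
      · rw [← map_mul]; exact hK' _ (by decide)
      · rw [← hm]; exact hK' _ hmK
    | one => exact mul_one 1
    | mul u v _ _ hu hv =>
      calc u * v * (u * v) = u * (v * u) * v := by simp only [mul_assoc]
        _ = (u * u) * (v * v) := by rw [hcomQ v u]; simp only [mul_assoc]
        _ = 1 := by rw [hu, hv, one_mul]
    | inv u _ hu => rw [← mul_inv_rev, hu, inv_one]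
  have hle := c.rank H K' hKH (fun x hx k hk => by rw [hcentral k hk x hx, mul_inv_cancel_right]; exact hk)
    (fun x hx y hy => by
      have h1 : π ⁅(⟨x, hx⟩ : H), ⟨y, hy⟩⁆ = 1 := by
        rw [map_commutatorElement, commutatorElement_eq_one_iff_mul_comm]; exact hcomQ _ _
      rw [QuotientGroup.mk'_apply, QuotientGroup.eq_one_iff, Subgroup.mem_subgroupOf,
        commutatorElement_def] at h1
      simpa using h1)
    (fun x hx => by
      have h1 := hsqQ (π ⟨x, hx⟩)
      rw [← map_mul, QuotientGroup.mk'_apply, QuotientGroup.eq_one_iff, Subgroup.mem_subgroupOf] at h1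
      simpa using h1)
  have hcardK : Nat.card K' = 4 := by
    rw [Subgroup.card_map_of_injective c.inj,
      show Nat.card (VA ⊓ VB : Subgroup W) = Fintype.card {w : W // memA w ∧ memB w} by
        rw [← Nat.card_eq_fintype_card]; exact Nat.card_congr (Equiv.refl _)]
    decide +kernel
  set B : Subgroup W := Subgroup.closure {a1, b1, a2, b2}
  have hBH : B.map c.φ ≤ H := by
    rw [MonoidHom.map_closure, Subgroup.closure_le]
    rintro _ ⟨x, hx, rfl⟩
    simp only [Set.mem_insert_iff, Set.mem_singleton_iff] at hx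
    rcases hx with rfl | rfl | rfl | rfl <;> exact Subgroup.subset_closure (by simp [G0])
  have hBcard : 64 ≤ Nat.card B := by
    have hs : ∀ w : W, w.e = false → w ∈ B := by
      intro w hw
      let f : D →* W := MonoidHom.mk' (fun x => ⟨x, 1, false⟩) (fun x y => by simp [mul_def])
      let g : D →* W := MonoidHom.mk' (fun x => ⟨1, x, false⟩) (fun x y => by simp [mul_def])
      have hf : ∀ x : D, f x ∈ B := fun x => by
        obtain ⟨k, l, rfl⟩ := D_gen x
        rw [map_mul, map_pow, map_pow, map_mul]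
        exact mul_mem (pow_mem (mul_mem (Subgroup.subset_closure (show a1 ∈ ({a1, b1, a2, b2} : Set W) by simp))
          (Subgroup.subset_closure (show b1 ∈ ({a1, b1, a2, b2} : Set W) by simp))) _)
          (pow_mem (Subgroup.subset_closure (show a1 ∈ ({a1, b1, a2, b2} : Set W) by simp)) _)
      have hg : ∀ x : D, g x ∈ B := fun x => by
        obtain ⟨k, l, rfl⟩ := D_gen x
        rw [map_mul, map_pow, map_pow, map_mul]
        exact mul_mem (pow_mem (mul_mem (Subgroup.subset_closure (show a2 ∈ ({a1, b1, a2, b2} : Set W) by simp))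
          (Subgroup.subset_closure (show b2 ∈ ({a1, b1, a2, b2} : Set W) by simp))) _)
          (pow_mem (Subgroup.subset_closure (show a2 ∈ ({a1, b1, a2, b2} : Set W) by simp)) _)
      rw [← word_eq w, word, hw]
      exact mul_mem (mul_mem (hf w.x) (hg w.y)) (one_mem B)
    have h1 : Nat.card {w : W // w.e = false} ≤ Nat.card B :=
      Nat.card_le_card_of_injective (fun w => ⟨w.1, hs w.1 w.2⟩) fun u v huv =>
        Subtype.ext (congrArg Subtype.val huv :)
    refine le_trans (le_of_eq ?_) h1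
    rw [Nat.card_eq_fintype_card]; decide +kernel
  have hlt : B.map c.φ < H := lt_of_le_of_ne hBH fun e => by
    have hhH : h ∈ B.map c.φ := e ▸ Subgroup.subset_closure (by simp [G0])
    obtain ⟨x, -, hx⟩ := hhH
    exact hhP ⟨x, hx⟩
  have hB' : Nat.card (B.map c.φ) = Nat.card B := Subgroup.card_map_of_injective c.inj
  have h3 : Nat.card (B.map c.φ) < Nat.card H := by
    by_contra hge
    exact hlt.ne (Subgroup.eq_of_le_of_card_ge hBH (Nat.le_of_not_lt hge))
  omega

theorem pull_mul {g h : S} (hg : g ∈ normalizer (c.P : Set S)) (hh : h ∈ normalizer (c.P : Set S))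
    (w : W) : c.pull (mul_mem hg hh) w = c.pull hg (c.pull hh w) := by
  apply c.inj
  rw [c.phi_pull, c.phi_pull, c.phi_pull]
  group

theorem map_pull_mul {g h : S} (hg : g ∈ normalizer (c.P : Set S)) (hh : h ∈ normalizer (c.P : Set S))
    (V : Subgroup W) : V.map (c.pull (mul_mem hg hh)) = (V.map (c.pull hh)).map (c.pull hg) := by
  rw [Subgroup.map_map]
  exact congrArg (V.map ·) (MonoidHom.ext fun w => c.pull_mul hg hh w)

theorem mem_of_fix {g : S} (hg : g ∈ normalizer (c.P : Set S)) (hA : VA.map (c.pull hg) = VA) :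
    g ∈ c.P := by
  obtain ⟨k, hk⟩ := c.p2 g
  induction k generalizing g with
  | zero => rw [pow_zero, pow_one] at hk; rw [hk]; exact one_mem _
  | succ k ih =>
    refine c.mem_of_sq hg hA (ih (g := g * g) (mul_mem hg hg) ?_ ?_)
    · rw [c.map_pull_mul hg hg, hA, hA]
    · rw [← pow_two, ← pow_mul, ← pow_succ', hk]

theorem swap_of_not_mem {g : S} (hg : g ∈ normalizer (c.P : Set S)) (h : g ∉ c.P) :
    VA.map (c.pull hg) = VB :=
  (cases_A (c.pull_inj hg)).resolve_left fun hA => h (c.mem_of_fix hg hA)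

theorem centralizer_le {g : S} (hg : ∀ w : W, g * c.φ w = c.φ w * g) : g ∈ c.P := by
  have hN : g ∈ normalizer (c.P : Set S) := by
    refine Subgroup.centralizer_le_normalizer _ (Subgroup.mem_centralizer_iff.mpr ?_)
    rintro _ ⟨w, rfl⟩
    exact (hg w).symm
  refine c.mem_of_fix hN ?_
  have : c.pull hN = MonoidHom.id W := MonoidHom.ext fun w => c.inj (by
    rw [c.phi_pull, hg w, mul_inv_cancel_right]; rfl)
  rw [this, Subgroup.map_id]

variable (hlt : c.P ≠ ⊤)
include hlt

theorem center_eq' : Subgroup.center S = (Subgroup.zpowers ze).map c.φ := by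
  haveI := Fact.mk Nat.prime_two
  haveI : Nontrivial S := ⟨⟨c.φ ze, 1, fun h => absurd (c.inj (h.trans (map_one c.φ).symm)) (by decide)⟩⟩
  haveI := c.p2.center_nontrivial
  have hle : Subgroup.center S ≤ (Subgroup.zpowers ze).map c.φ := fun z hz => by
    obtain ⟨w, rfl⟩ := c.centralizer_le (g := z) fun v => (Subgroup.mem_center_iff.mp hz _).symm
    have hc : ∀ v : W, w * v = v * w := fun v => c.inj (by
      rw [map_mul, map_mul]; exact (Subgroup.mem_center_iff.mp hz _).symm)
    rcases WreathD8.center_eq w (hc _) (hc _) (hc _) (hc _) (hc _) with rfl | rfl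
    · exact Subgroup.mem_map_of_mem c.φ (one_mem _)
    · exact Subgroup.mem_map_of_mem c.φ (Subgroup.mem_zpowers _)
  refine Subgroup.eq_of_le_of_card_ge hle ?_
  rw [Subgroup.card_map_of_injective c.inj, Nat.card_zpowers,
    orderOf_eq_prime (show ze ^ 2 = 1 by decide) (by decide)]
  exact Finite.one_lt_card_iff_nontrivial.mpr inferInstance

theorem center_card : Nat.card (Subgroup.center S) = 2 := by
  rw [c.center_eq' hlt, Subgroup.card_map_of_injective c.inj, Nat.card_zpowers]
  exact orderOf_eq_prime (by decide) (by decide)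

theorem center_map : (Subgroup.center c.P).map c.P.subtype = Subgroup.center S := by
  refine le_antisymm ?_ fun z hz => ?_
  · rintro _ ⟨⟨x, w, rfl⟩, hx, rfl⟩
    rw [c.center_eq' hlt]
    have hc : ∀ v : W, w * v = v * w := fun v => c.inj (by
      rw [map_mul, map_mul]
      exact (congrArg Subtype.val (Subgroup.mem_center_iff.mp hx ⟨c.φ v, c.phi_mem v⟩)).symm)
    rcases WreathD8.center_eq w (hc _) (hc _) (hc _) (hc _) (hc _) with rfl | rfl
    · exact Subgroup.mem_map_of_mem c.φ (one_mem _)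
    · exact Subgroup.mem_map_of_mem c.φ (Subgroup.mem_zpowers _)
  · have hzP : z ∈ c.P := c.centralizer_le (g := z) fun v => (Subgroup.mem_center_iff.mp hz _).symm
    exact ⟨⟨z, hzP⟩, Subgroup.mem_center_iff.mpr fun y =>
      Subtype.ext (Subgroup.mem_center_iff.mp hz y), rfl⟩

theorem exists_outside : ∃ g ∈ normalizer (c.P : Set S), g ∉ c.P := by
  haveI := Fact.mk Nat.prime_two
  haveI := c.p2.isNilpotent
  have h := normalizerCondition_of_isNilpotent (G := S) c.P (lt_top_iff_ne_top.mpr hlt)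
  exact SetLike.exists_of_lt h

theorem relIndex_two : c.P.relIndex (normalizer (c.P : Set S)) = 2 := by
  obtain ⟨g, hg, hgP⟩ := c.exists_outside hlt
  rw [Subgroup.relIndex, Subgroup.index_eq_two_iff']
  refine ⟨⟨g, hg⟩, ?_⟩
  rintro ⟨b, hb⟩
  simp only [Subgroup.mem_subgroupOf, Subgroup.coe_mul]
  by_cases hbP : b ∈ c.P
  · exact Or.inr ⟨hbP, fun h => hgP ((Subgroup.mul_mem_cancel_right _ hbP).mp h)⟩
  · refine Or.inl ⟨c.mem_of_fix (mul_mem hg hb) ?_, hbP⟩
    rw [c.map_pull_mul hg hb, c.swap_of_not_mem hb hbP]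
    exact map_eq_A (c.pull_inj hg) (c.swap_of_not_mem hg hgP)

theorem norm_V (V : Subgroup S) (hVP : V ≤ c.P) (hn : ∀ g ∈ c.P, ∀ v ∈ V, g * v * g⁻¹ ∈ V)
    (he : IsMulCommutative V ∧ ∀ a ∈ V, a ^ 2 = 1) (hc : Nat.card V = 16) :
    normalizer (V : Set S) = c.P := by
  haveI := Fact.mk Nat.prime_two
  set U := V.comap c.φ with hU
  have hUV : U.map c.φ = V := Subgroup.map_comap_eq_self (hVP.trans le_rfl)
  have hUc : Nat.card U = 16 := by rw [← hc, ← hUV, Subgroup.card_map_of_injective c.inj]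
  have hU1 : ∀ w ∈ U, w * w = 1 := fun w hw => c.inj (by
    rw [map_mul, map_one, ← pow_two]; exact he.2 _ hw)
  have hUU : U = VA ∨ U = VB := by
    have := aut_cases (α := MonoidHom.id W) Function.injective_id hUc hU1 fun w hw g => by
      refine commute_in hU1 ?_ hw
      show c.φ (g * w * g⁻¹) ∈ V
      rw [map_mul, map_mul, map_inv]
      exact hn _ (c.phi_mem g) _ hw
    rwa [Subgroup.map_id] at this
  have hPN : c.P ≤ normalizer (V : Set S) := fun g hg => by
    haveI : Finite (V : Set S) := Set.toFinite _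
    exact Subgroup.mem_normalizer_fintype fun v hv => hn g hg v hv
  by_contra hne
  haveI := c.p2.isNilpotent
  set N := normalizer (V : Set S)
  have hlt' : c.P.subgroupOf N < ⊤ := lt_top_iff_ne_top.mpr fun h =>
    hne (le_antisymm (Subgroup.subgroupOf_eq_top.mp h) hPN)
  obtain ⟨⟨g, hgN⟩, hg, hgP⟩ :=
    SetLike.exists_of_lt (normalizerCondition_of_isNilpotent (G := N) _ hlt')
  have hgn : g ∈ normalizer (c.P : Set S) := by
    haveI : Finite (c.P : Set S) := Set.toFinite _
    refine Subgroup.mem_normalizer_fintype fun x hx => ?_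
    exact (Subgroup.mem_normalizer_iff.mp hg ⟨x, hPN hx⟩).mp hx
  refine hgP (c.mem_of_fix hgn ?_)
  have hmap : U.map (c.pull hgn) = U := by
    apply Subgroup.map_injective c.inj
    rw [hUV, Subgroup.map_map]
    refine le_antisymm ?_ fun v hv => ?_
    · rintro _ ⟨w, hw, rfl⟩
      show c.φ (c.pull hgn w) ∈ V
      rw [c.phi_pull]
      exact (Subgroup.mem_normalizer_iff.mp hgN _).mp hw
    · have h1 : g⁻¹ * v * g ∈ V := (Subgroup.mem_normalizer_iff.mp hgN _).mpr (by group; exact hv)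
      obtain ⟨w, hw⟩ := hVP h1
      refine ⟨w, show c.φ w ∈ V from hw ▸ h1, ?_⟩
      show c.φ (c.pull hgn w) = v
      rw [c.phi_pull, hw]; group
  rcases hUU with e | e
  · rwa [e] at hmap
  · rw [e] at hmap
    exact (cases_A (c.pull_inj hgn)).resolve_right fun h =>
      VA_ne_VB (Subgroup.map_injective (c.pull_inj hgn) (h.trans hmap.symm))

/-- A normalized element outside `P`. -/
theorem exists_sigma : ∃ (h : S) (hh : h ∈ normalizer (c.P : Set S)), h ∉ c.P ∧
    (∀ w ∈ [a1, b1, a2, b2, t], (sig w)⁻¹ * c.pull hh w ∈ Zl) ∧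
    ∃ m ∈ Zl, h * h = c.φ m := by
  obtain ⟨g₀, hg₀, hg₀P⟩ := c.exists_outside hlt
  obtain ⟨g, hg, hgg, hza, -⟩ := c.exists_fix_za hg₀
  have hgP : g ∉ c.P := fun h' => hg₀P (by
    have := mul_mem h' hgg
    rwa [mul_inv_cancel_left] at this)
  set α := c.pull hg
  have hα := c.pull_inj hg
  obtain ⟨k1, k2, k3, k4⟩ := aut_swap_base hα hza (c.swap_of_not_mem hg hgP)
  set e := fixer (b1⁻¹ * α a1) (b2⁻¹ * α a2) (a1⁻¹ * α b1) (a2⁻¹ * α b2)
  obtain ⟨f1, f2, f3, f4⟩ := fixer_spec _ k1 _ k2 _ k3 _ k4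
  simp only [mul_inv_cancel_left] at f1 f2 f3 f4
  set h := c.φ e * g
  have hh : h ∈ normalizer (c.P : Set S) := mul_mem (c.phi_mem_norm e) hg
  have hhP : h ∉ c.P := fun h' => hgP ((Subgroup.mul_mem_cancel_left _ (c.phi_mem e)).mp h')
  have hpull : ∀ w, c.pull hh w = e * α w * e⁻¹ := fun w => c.inj (by
    rw [c.phi_pull, map_mul, map_mul, map_inv, c.phi_pull]
    simp [h, mul_assoc])
  set β := c.pull hh
  have g1 : b1⁻¹ * β a1 ∈ Zl := by rw [hpull]; exact f1
  have g2 : b2⁻¹ * β a2 ∈ Zl := by rw [hpull]; exact f2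
  have g3 : a1⁻¹ * β b1 ∈ Zl := by rw [hpull]; exact f3
  have g4 : a2⁻¹ * β b2 ∈ Zl := by rw [hpull]; exact f4
  have hβ := c.pull_inj hh
  have hZl : ∀ v : W, v ∈ Zl → β v = v := fun v hv => by
    simp only [Zl, List.mem_cons, List.not_mem_nil, or_false] at hv
    rcases hv with rfl | rfl
    · exact map_one β
    · exact aut_ze hβ
  have hZc : ∀ v : W, v ∈ Zl → ∀ u, v * u = u * v := fun v hv u => by
    simp only [Zl, List.mem_cons, List.not_mem_nil, or_false] at hv
    rcases hv with rfl | rfl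
    · rw [one_mul, mul_one]
    · exact ze_central u
  have hZm : ∀ u v : W, u ∈ Zl → v ∈ Zl → u * v ∈ Zl ∧ u⁻¹ ∈ Zl := by decide +kernel
  have hsw : ∀ x y : W, y⁻¹ * β x ∈ Zl → t * x * t⁻¹ = t * x * t⁻¹ →
      ∀ x' y' : W, t * x * t⁻¹ = x' → y'⁻¹ * β x' ∈ Zl → y'⁻¹ * (β t * y * (β t)⁻¹) ∈ Zl := by
    intro x y hy _ x' y' hx hy'
    set z := y⁻¹ * β x with hz
    have e1 : β x = y * z := by rw [hz]; group
    have e2 : β x' = β t * y * (β t)⁻¹ * z := by
      rw [← hx, map_mul, map_mul, map_inv, e1]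
      rw [mul_assoc (β t * y) _ z, ← hZc z hy (β t)⁻¹]
      simp only [mul_assoc]
    have e3 : y'⁻¹ * (β t * y * (β t)⁻¹) = (y'⁻¹ * β x') * z⁻¹ := by rw [e2]; group
    rw [e3]
    exact (hZm _ _ hy' (hZm _ _ hy hy).2).1
  have g5 : t⁻¹ * β t ∈ Zl := t_unique _ (by rw [← map_mul, show t * t = 1 by decide, map_one])
    (hsw a1 b1 g1 rfl a2 b2 (by decide) g2) (hsw b1 a1 g3 rfl b2 a2 (by decide) g4)
    (hsw a2 b2 g2 rfl a1 b1 (by decide) g1) (hsw b2 a2 g4 rfl b1 a1 (by decide) g3)
  have hall : ∀ w ∈ [a1, b1, a2, b2, t], (sig w)⁻¹ * β w ∈ Zl := by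
    intro w hw
    simp only [List.mem_cons, List.not_mem_nil, or_false] at hw
    rcases hw with rfl | rfl | rfl | rfl | rfl
    · exact (show (sig a1) = b1 by decide) ▸ g1
    · exact (show (sig b1) = a1 by decide) ▸ g3
    · exact (show (sig a2) = b2 by decide) ▸ g2
    · exact (show (sig b2) = a2 by decide) ▸ g4
    · exact (show (sig t) = t by decide) ▸ g5
  refine ⟨h, hh, hhP, hall, ?_⟩
  have hh2 : h * h ∈ c.P := c.mem_of_fix (mul_mem hh hh) (by
    rw [c.map_pull_mul hh hh, c.swap_of_not_mem hh hhP]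
    exact map_eq_A hβ (c.swap_of_not_mem hh hhP))
  obtain ⟨m, hm⟩ := hh2
  have hm2 : ∀ w, m * w * m⁻¹ = β (β w) := fun w => c.inj (by
    rw [map_mul, map_mul, map_inv, hm, c.phi_pull, c.phi_pull]; group)
  have hsq : ∀ x y : W, y⁻¹ * β x ∈ Zl → x⁻¹ * β y ∈ Zl → x⁻¹ * (m * x * m⁻¹) ∈ Zl := by
    intro x y h1 h2
    rw [hm2 x]
    have e : β (β x) = β y * (y⁻¹ * β x) := by
      conv_lhs => rw [show β x = y * (y⁻¹ * β x) by group]
      rw [map_mul, hZl _ h1]
    rw [e, ← mul_assoc]
    exact (hZm _ _ h2 h1).1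
  have hmt : m * t = t * m := by
    obtain ⟨d, hd, hd'⟩ : ∃ d ∈ Zl, c.φ t * h * (c.φ t)⁻¹ = h * c.φ d := by
      set d' := t⁻¹ * β t with hd'
      refine ⟨d', g5, ?_⟩
      have h1 : h * c.φ t * h⁻¹ = c.φ t * c.φ d' := by
        rw [← c.phi_pull hh, ← map_mul]; congr 1; rw [hd', mul_inv_cancel_left]
      have h2 : c.φ t * c.φ t = 1 := by rw [← map_mul, show t * t = 1 by decide, map_one]
      have h3 : (c.φ t)⁻¹ = c.φ t := inv_eq_of_mul_eq_one_right h2
      have h4 : c.φ d' * c.φ d' = 1 := by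
        rw [← map_mul, Zl_sq d' g5, map_one]
      have h5 : h * c.φ d' * h⁻¹ = c.φ d' := by rw [← c.phi_pull hh, hZl d' g5]
      have h6 : h * c.φ t = c.φ t * c.φ d' * h := by rw [← h1]; group
      calc c.φ t * h * (c.φ t)⁻¹ = c.φ t * (h * c.φ t) := by rw [h3]; group
        _ = (c.φ t * c.φ t) * (c.φ d' * h) := by rw [h6]; group
        _ = c.φ d' * h := by rw [h2, one_mul]
        _ = h * c.φ d' := by
          conv_lhs => rw [← h5]
          group
    apply c.inj
    rw [map_mul, map_mul, hm]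
    have h4 : c.φ d * c.φ d = 1 := by
      rw [← map_mul, Zl_sq d hd, map_one]
    have h5 : h * c.φ d = c.φ d * h := by
      have := c.phi_pull hh d
      rw [hZl d hd] at this
      exact (eq_mul_inv_iff_mul_eq.mp this).symm
    have e : c.φ t * (h * h) * (c.φ t)⁻¹ = h * h := by
      calc c.φ t * (h * h) * (c.φ t)⁻¹ = (c.φ t * h * (c.φ t)⁻¹) * (c.φ t * h * (c.φ t)⁻¹) := by group
        _ = (h * c.φ d) * (h * c.φ d) := by rw [hd']
        _ = h * (c.φ d * h) * c.φ d := by group
        _ = h * (h * c.φ d) * c.φ d := by rw [h5]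
        _ = h * h * (c.φ d * c.φ d) := by group
        _ = h * h := by rw [h4, mul_one]
    exact (mul_inv_eq_iff_eq_mul.mp e).symm
  exact ⟨m, sq_Zl m (hsq _ _ g1 g3) (hsq _ _ g3 g1) (hsq _ _ g2 g4) (hsq _ _ g4 g2) hmt, hm.symm⟩

end Ctx

end Cfsg.Agent.FG78.WreathD8
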