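import Mathlib

set_option autoImplicit false

/-! A concrete copy of `D₈ ≀ C₂`, the Sylow 2-subgroup of `S₈`, with computed facts. -/

namespace Cfsg.Agent.FG78.WreathD8

abbrev D := DihedralGroup 4

/-- `(x, y) · t^ε` -/
@[ext]
structure W where
  x : D
  y : D
  e : Bool
deriving DecidableEq

instance : Fintype W :=
  Fintype.ofEquiv (D × D × Bool)
    { toFun := fun p => ⟨p.1, p.2.1, p.2.2⟩, invFun := fun w => (w.x, w.y, w.e)
      left_inv := fun _ => rfl, right_inv := fun _ => rfl }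

instance : Mul W := ⟨fun a b => if a.e then ⟨a.x * b.y, a.y * b.x, !b.e⟩ else ⟨a.x * b.x, a.y * b.y, b.e⟩⟩
instance : One W := ⟨⟨1, 1, false⟩⟩
instance : Inv W := ⟨fun a => if a.e then ⟨a.y⁻¹, a.x⁻¹, true⟩ else ⟨a.x⁻¹, a.y⁻¹, false⟩⟩

theorem mul_def (a b : W) : a * b = if a.e then ⟨a.x * b.y, a.y * b.x, !b.e⟩ else ⟨a.x * b.x, a.y * b.y, b.e⟩ := rfl
theorem one_def : (1 : W) = ⟨1, 1, false⟩ := rfl
theorem inv_def (a : W) : a⁻¹ = if a.e then ⟨a.y⁻¹, a.x⁻¹, true⟩ else ⟨a.x⁻¹, a.y⁻¹, false⟩ := rfl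

instance : Group W where
  mul_assoc := by
    rintro ⟨a, b, (_ | _)⟩ ⟨c, d, (_ | _)⟩ ⟨g, h, k⟩ <;> simp [mul_def, mul_assoc]
  one_mul := by rintro ⟨a, b, c⟩; simp [mul_def, one_def]
  mul_one := by rintro ⟨a, b, (_ | _)⟩ <;> simp [mul_def, one_def]
  inv_mul_cancel := by rintro ⟨a, b, (_ | _)⟩ <;> simp [mul_def, one_def, inv_def]

theorem card_W : Nat.card W = 128 := by
  rw [Nat.card_eq_fintype_card]; decide +kernel

def a : D := .sr 0
def b : D := .sr 1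
def zD : D := .r 2
def a1 : W := ⟨a, 1, false⟩
def a2 : W := ⟨1, a, false⟩
def b1 : W := ⟨b, 1, false⟩
def b2 : W := ⟨1, b, false⟩
def t : W := ⟨1, 1, true⟩
def za : W := ⟨zD, 1, false⟩
def zb : W := ⟨1, zD, false⟩
def ze : W := ⟨zD, zD, false⟩

def inA (x : D) : Bool := x == 1 || x == zD || x == a || x == a * zD
def inB (x : D) : Bool := x == 1 || x == zD || x == b || x == b * zD
def memA (w : W) : Prop := inA w.x = true ∧ inA w.y = true ∧ w.e = false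
def memB (w : W) : Prop := inB w.x = true ∧ inB w.y = true ∧ w.e = false

instance (w : W) : Decidable (memA w) := inferInstanceAs (Decidable (_ ∧ _))
instance (w : W) : Decidable (memB w) := inferInstanceAs (Decidable (_ ∧ _))

theorem inA_mul : ∀ x y : D, inA x = true → inA y = true → inA (x * y) = true ∧ inA x⁻¹ = true := by decide
theorem inB_mul : ∀ x y : D, inB x = true → inB y = true → inB (x * y) = true ∧ inB x⁻¹ = true := by decide

def VA : Subgroup W where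
  carrier := {w | memA w}
  one_mem' := by show memA 1; decide
  mul_mem' := by
    rintro ⟨x, y, e⟩ ⟨x', y', e'⟩ ⟨h1, h2, h3⟩ ⟨h1', h2', h3'⟩
    simp only at h1 h2 h3 h1' h2' h3'
    subst h3 h3'
    exact ⟨(inA_mul _ _ h1 h1').1, (inA_mul _ _ h2 h2').1, rfl⟩
  inv_mem' := by
    rintro ⟨x, y, e⟩ ⟨h1, h2, h3⟩
    simp only at h1 h2 h3
    subst h3
    exact ⟨(inA_mul _ _ h1 h1).2, (inA_mul _ _ h2 h2).2, rfl⟩

def VB : Subgroup W where
  carrier := {w | memB w}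
  one_mem' := by show memB 1; decide
  mul_mem' := by
    rintro ⟨x, y, e⟩ ⟨x', y', e'⟩ ⟨h1, h2, h3⟩ ⟨h1', h2', h3'⟩
    simp only at h1 h2 h3 h1' h2' h3'
    subst h3 h3'
    exact ⟨(inB_mul _ _ h1 h1').1, (inB_mul _ _ h2 h2').1, rfl⟩
  inv_mem' := by
    rintro ⟨x, y, e⟩ ⟨h1, h2, h3⟩
    simp only at h1 h2 h3
    subst h3
    exact ⟨(inB_mul _ _ h1 h1).2, (inB_mul _ _ h2 h2).2, rfl⟩

theorem mem_VA {w : W} : w ∈ VA ↔ memA w := Iff.rfl
theorem mem_VB {w : W} : w ∈ VB ↔ memB w := Iff.rfl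

theorem memA_facts : ∀ w : W, memA w →
    w * w = 1 ∧ a1 * w * a1⁻¹ * w = 1 ∧ a2 * w * a2⁻¹ * w = 1 ∧
    memA (a1 * w * a1⁻¹) ∧ memA (a2 * w * a2⁻¹) ∧ memA (b1 * w * b1⁻¹) ∧
    memA (b2 * w * b2⁻¹) ∧ memA (t * w * t⁻¹) := by decide +kernel

theorem memB_facts : ∀ w : W, memB w →
    w * w = 1 ∧ b1 * w * b1⁻¹ * w = 1 ∧ b2 * w * b2⁻¹ * w = 1 ∧
    memB (a1 * w * a1⁻¹) ∧ memB (a2 * w * a2⁻¹) ∧ memB (b1 * w * b1⁻¹) ∧
    memB (b2 * w * b2⁻¹) ∧ memB (t * w * t⁻¹) := by decide +kernel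

theorem card_VA : Nat.card VA = 16 := by
  rw [show Nat.card VA = Fintype.card {w : W // memA w} by
    rw [← Nat.card_eq_fintype_card]; exact Nat.card_congr (Equiv.refl _)]
  decide +kernel

theorem card_VB : Nat.card VB = 16 := by
  rw [show Nat.card VB = Fintype.card {w : W // memB w} by
    rw [← Nat.card_eq_fintype_card]; exact Nat.card_congr (Equiv.refl _)]
  decide +kernel

/-- Involutions commuting with their conjugates lie in `VA ∪ VB`. -/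
theorem good : ∀ w : W, w * w = 1 →
    (∀ g : Fin 6, let c := ([t, a1, b1, a1 * b1, a2, b2] : List W).get g
      c * w * c⁻¹ * w = w * (c * w * c⁻¹)) → memA w ∨ memB w := by decide +kernel

theorem center_eq : ∀ w : W, w * a1 = a1 * w → w * b1 = b1 * w → w * t = t * w →
    w * a2 = a2 * w → w * b2 = b2 * w → w = 1 ∨ w = ze := by decide +kernel

theorem ze_central : ∀ w : W, ze * w = w * ze := by decide +kernel

def K : List W := [1, za, zb, ze]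

theorem inter_K : ∀ w : W, w ∈ K ↔ memA w ∧ memB w := by decide +kernel

theorem K_comm : ∀ z ∈ K, a1 * z = z * a1 ∧ b1 * z = z * b1 ∧ a2 * z = z * a2 ∧ b2 * z = z * b2 := by
  decide +kernel

theorem cent_base : ∀ w : W, w * a1 = a1 * w → w * b1 = b1 * w →
    w * a2 = a2 * w → w * b2 = b2 * w → w ∈ K := by decide +kernel

theorem K_dichotomy : ∀ w : W, w ∈ K → w ≠ 1 → w ≠ ze → w = za ∨ w = zb := by decide +kernel

theorem commA_a1 : ∀ w : W, memB w → (a1 * w * a1⁻¹ * w⁻¹ = 1 ∨ a1 * w * a1⁻¹ * w⁻¹ = za) ∧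
    (a2 * w * a2⁻¹ * w⁻¹ = 1 ∨ a2 * w * a2⁻¹ * w⁻¹ = zb) := by decide +kernel

theorem commB_b1 : ∀ w : W, memA w → (b1 * w * b1⁻¹ * w⁻¹ = 1 ∨ b1 * w * b1⁻¹ * w⁻¹ = za) ∧
    (b2 * w * b2⁻¹ * w⁻¹ = 1 ∨ b2 * w * b2⁻¹ * w⁻¹ = zb) := by decide +kernel

theorem selA : ∀ v : W, memA v → v ∉ K →
    ((v * b2 * v⁻¹ * b2⁻¹ = 1 ∨ v * b2 * v⁻¹ * b2⁻¹ = za) → a1⁻¹ * v ∈ K) ∧
    ((v * b1 * v⁻¹ * b1⁻¹ = 1 ∨ v * b1 * v⁻¹ * b1⁻¹ = zb) → a2⁻¹ * v ∈ K) := by decide +kernel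

theorem selB : ∀ v : W, memB v → v ∉ K →
    ((v * a2 * v⁻¹ * a2⁻¹ = 1 ∨ v * a2 * v⁻¹ * a2⁻¹ = za) → b1⁻¹ * v ∈ K) ∧
    ((v * a1 * v⁻¹ * a1⁻¹ = 1 ∨ v * a1 * v⁻¹ * a1⁻¹ = zb) → b2⁻¹ * v ∈ K) := by decide +kernel

def Zl : List W := [1, ze]

theorem Zl_sq : ∀ z ∈ Zl, z * z = 1 := by decide +kernel

/-- the element correcting signs -/
def fixer (k1 k2 k3 k4 : W) : W :=
  (if k1 ∈ Zl then 1 else a1) * (if k2 ∈ Zl then 1 else a2) *
    ((if k3 ∈ Zl then 1 else b1) * (if k4 ∈ Zl then 1 else b2))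

theorem fixer_spec : ∀ k1 ∈ K, ∀ k2 ∈ K, ∀ k3 ∈ K, ∀ k4 ∈ K,
    b1⁻¹ * (fixer k1 k2 k3 k4 * (b1 * k1) * (fixer k1 k2 k3 k4)⁻¹) ∈ Zl ∧
    b2⁻¹ * (fixer k1 k2 k3 k4 * (b2 * k2) * (fixer k1 k2 k3 k4)⁻¹) ∈ Zl ∧
    a1⁻¹ * (fixer k1 k2 k3 k4 * (a1 * k3) * (fixer k1 k2 k3 k4)⁻¹) ∈ Zl ∧
    a2⁻¹ * (fixer k1 k2 k3 k4 * (a2 * k4) * (fixer k1 k2 k3 k4)⁻¹) ∈ Zl := by decide +kernel

theorem t_unique : ∀ w : W, w * w = 1 → b2⁻¹ * (w * b1 * w⁻¹) ∈ Zl → a2⁻¹ * (w * a1 * w⁻¹) ∈ Zl →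
    b1⁻¹ * (w * b2 * w⁻¹) ∈ Zl → a1⁻¹ * (w * a2 * w⁻¹) ∈ Zl → t⁻¹ * w ∈ Zl := by decide +kernel

theorem sq_Zl : ∀ w : W, a1⁻¹ * (w * a1 * w⁻¹) ∈ Zl → b1⁻¹ * (w * b1 * w⁻¹) ∈ Zl →
    a2⁻¹ * (w * a2 * w⁻¹) ∈ Zl → b2⁻¹ * (w * b2 * w⁻¹) ∈ Zl → w * t = t * w → w ∈ Zl := by
  decide +kernel

/-- the outer automorphism -/
def sD : D → D
  | .r i => .r (-i)
  | .sr i => .sr (1 - i)

theorem sD_mul : ∀ x y : D, sD (x * y) = sD x * sD y := by decide

def sig : W →* W where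
  toFun w := ⟨sD w.x, sD w.y, w.e⟩
  map_one' := by rw [one_def]; rfl
  map_mul' := by
    rintro ⟨x, y, (_ | _)⟩ ⟨x', y', e'⟩ <;> simp [mul_def, sD_mul]

def word (w : W) : W :=
  ⟨w.x, 1, false⟩ * ⟨1, w.y, false⟩ * (if w.e then t else 1)

theorem word_eq : ∀ w : W, word w = w := by decide +kernel

theorem D_gen : ∀ x : D, ∃ k : Fin 4, ∃ l : Fin 2, x = (a * b) ^ (k : ℕ) * a ^ (l : ℕ) := by
  decide +kernel

theorem closure_gens : Subgroup.closure ({a1, b1, a2, b2, t} : Set W) = ⊤ := by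
  refine eq_top_iff.mpr fun w _ => ?_
  set C := Subgroup.closure ({a1, b1, a2, b2, t} : Set W)
  have hm : ∀ v ∈ ({a1, b1, a2, b2, t} : Set W), v ∈ C := fun v hv => Subgroup.subset_closure hv
  let f : D →* W := MonoidHom.mk' (fun x => ⟨x, 1, false⟩) (fun x y => by simp [mul_def])
  let g : D →* W := MonoidHom.mk' (fun x => ⟨1, x, false⟩) (fun x y => by simp [mul_def])
  have hf : ∀ x : D, f x ∈ C := fun x => by
    obtain ⟨k, l, rfl⟩ := D_gen x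
    rw [map_mul, map_pow, map_pow, map_mul]
    exact mul_mem (pow_mem (mul_mem (hm a1 (by simp)) (hm b1 (by simp))) _) (pow_mem (hm a1 (by simp)) _)
  have hg : ∀ x : D, g x ∈ C := fun x => by
    obtain ⟨k, l, rfl⟩ := D_gen x
    rw [map_mul, map_pow, map_pow, map_mul]
    exact mul_mem (pow_mem (mul_mem (hm a2 (by simp)) (hm b2 (by simp))) _) (pow_mem (hm a2 (by simp)) _)
  rw [← word_eq w]
  refine mul_mem (mul_mem (hf w.x) (hg w.y)) ?_
  split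
  · exact hm t (by simp)
  · exact one_mem C

/-! ### The embedding in `S₈` -/

def dact : D → ZMod 4 → ZMod 4
  | .r i, x => x + i
  | .sr i, x => -(x + i)

theorem dact_mul : ∀ p q : D, ∀ x : ZMod 4, dact (p * q) x = dact p (dact q x) := by decide +kernel

def act (w : W) (p : ZMod 4 × Bool) : ZMod 4 × Bool :=
  (dact (if xor p.2 w.e then w.y else w.x) p.1, xor p.2 w.e)

theorem act_one : ∀ p : ZMod 4 × Bool, act 1 p = p := by decide +kernel

theorem act_mul (v w : W) (p : ZMod 4 × Bool) : act (v * w) p = act v (act w p) := by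
  obtain ⟨x, y, (_ | _)⟩ := v <;> obtain ⟨x', y', (_ | _)⟩ := w <;>
    obtain ⟨i, (_ | _)⟩ := p <;> simp [act, mul_def, dact_mul]

instance : MulAction W (ZMod 4 × Bool) where
  smul := act
  one_smul := act_one
  mul_smul := act_mul

theorem faithful : ∀ w : W, (∀ p : ZMod 4 × Bool, w • p = p) → w = 1 := by decide +kernel

noncomputable def toPerm8 : W →* Equiv.Perm (Fin 8) :=
  ((Fintype.equivOfCardEq (by decide) : ZMod 4 × Bool ≃ Fin 8).permCongrHom.toMonoidHom).comp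
    (MulAction.toPermHom W (ZMod 4 × Bool))

theorem toPerm8_injective : Function.Injective toPerm8 := by
  refine (injective_iff_map_eq_one _).mpr fun w hw => faithful w fun p => ?_
  have h := (Equiv.permCongrHom _).injective (a₁ := MulAction.toPermHom W (ZMod 4 × Bool) w) (a₂ := 1)
    (hw.trans (map_one _).symm)
  exact congrArg (fun σ : Equiv.Perm _ => σ p) h

theorem factorization_card_perm8 : (Nat.card (Equiv.Perm (Fin 8))).factorization 2 = 7 := by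
  rw [Nat.card_perm, Nat.card_fin, show Nat.factorial 8 = 2 ^ 7 * 315 from rfl,
    Nat.factorization_mul (by norm_num) (by norm_num), Finsupp.add_apply,
    Nat.factorization_eq_zero_of_not_dvd (show ¬ 2 ∣ 315 by norm_num),
    Nat.Prime.factorization_pow Nat.prime_two]
  simp

noncomputable def sylow8 : Sylow 2 (Equiv.Perm (Fin 8)) :=
  Sylow.ofCard toPerm8.range (by
    rw [Nat.card_congr (MonoidHom.ofInjective toPerm8_injective).symm.toEquiv, card_W,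
      factorization_card_perm8]
    rfl)

noncomputable def equivSylow (T : Sylow 2 (Equiv.Perm (Fin 8))) :
    W ≃* (T : Subgroup (Equiv.Perm (Fin 8))) :=
  (MonoidHom.ofInjective toPerm8_injective).trans (sylow8.equiv T)

end Cfsg.Agent.FG78.WreathD8
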