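import Cfsg.Agent.FG78.WreathD8.Main

set_option autoImplicit false

/-! The normalizer modulo the centre is again `D₈ ≀ C₂`. -/

namespace Cfsg.Agent.FG78.WreathD8

open Subgroup

def m0 : W := a1 * b2 * t

/-- a homomorphism from two involutions -/
def homD {Q : Type*} [Group Q] (u v : Q) (hu : u * u = 1) (hv : v * v = 1) (hc : (u * v) ^ 4 = 1) :
    D →* Q where
  toFun
    | .r i => (u * v) ^ i.val
    | .sr i => u * (u * v) ^ i.val
  map_one' := by
    show (u * v) ^ (0 : ZMod 4).val = 1
    rw [ZMod.val_zero, pow_zero]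
  map_mul' := by
    have hadd : ∀ i j : ZMod 4, (u * v) ^ (i + j).val = (u * v) ^ i.val * (u * v) ^ j.val := fun i j => by
      rw [ZMod.val_add, ← pow_add, ← pow_eq_pow_mod _ hc]
    have hu' : u⁻¹ = u := inv_eq_of_mul_eq_one_right hu
    have hv' : v⁻¹ = v := inv_eq_of_mul_eq_one_right hv
    have hneg : ∀ i : ZMod 4, u * (u * v) ^ i.val * u = (u * v) ^ (-i).val := fun i => by
      have h1 : (u * v) ^ (-i).val = ((u * v) ^ i.val)⁻¹ := eq_inv_of_mul_eq_one_left (by
        rw [← hadd, neg_add_cancel, ZMod.val_zero, pow_zero])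
      rw [h1, ← inv_pow, mul_inv_rev, hu', hv']
      have : u * (u * v) ^ i.val * u⁻¹ = (u * (u * v) * u⁻¹) ^ i.val := conj_pow.symm
      rw [hu', ← mul_assoc u u v, hu, one_mul] at this
      exact this
    rintro (i | i) (j | j) <;> simp only [DihedralGroup.r_mul_r, DihedralGroup.r_mul_sr,
      DihedralGroup.sr_mul_r, DihedralGroup.sr_mul_sr]
    · rw [hadd]
    · rw [show j - i = -i + j by ring, hadd, ← hneg]
      simp only [mul_assoc]
      rw [← mul_assoc u u, hu, one_mul]
    · rw [hadd, mul_assoc]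
    · rw [show j - i = -i + j by ring, hadd, ← hneg]
      simp only [mul_assoc]

theorem homD_a {Q : Type*} [Group Q] (u v : Q) (hu : u * u = 1) (hv : v * v = 1) (hc : (u * v) ^ 4 = 1) :
    homD u v hu hv hc a = u ∧ homD u v hu hv hc b = v := by
  constructor
  · show u * (u * v) ^ (0 : ZMod 4).val = u
    rw [ZMod.val_zero, pow_zero, mul_one]
  · show u * (u * v) ^ (1 : ZMod 4).val = v
    rw [show (1 : ZMod 4).val = 1 from rfl, pow_one, ← mul_assoc, hu, one_mul]

theorem model_facts :
    m0 * sig m0 ∈ Zl ∧ (t * m0 * sig (t * m0)) * (t * m0 * sig (t * m0)) ∈ Zl ∧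
    sig t = t ∧ a2 * a2 = 1 ∧
    t * (a2 * t * a2) = (a2 * t * a2) * t ∧
    ((t * (a2 * m0 * sig a2))⁻¹ * (a2 * m0 * sig a2 * sig t)) ∈ Zl ∧
    ((m0 * sig (a2 * t * a2))⁻¹ * ((a2 * t * a2) * m0)) ∈ Zl ∧
    ((m0 * sig (a2 * m0 * sig a2))⁻¹ * (a2 * m0 * sig a2 * sig m0)) ∈ Zl ∧
    t * a2 * t = a1 ∧ m0 * sig a2 * m0⁻¹ = b1 * za ∧
    b1 * za * ((a1 * (b1 * za)) * (a1 * (b1 * za))) = b1 ∧ t * b1 * t = b2 := by decide +kernel

namespace Ctx

variable {S : Type*} [Group S] [Finite S] (c : Ctx S)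

theorem zl_center (hlt : c.P ≠ ⊤) {w : W} (hw : w ∈ Zl) : c.φ w ∈ Subgroup.center S := by
  rw [c.center_eq' hlt]
  simp only [Zl, List.mem_cons, List.not_mem_nil, or_false] at hw
  rcases hw with rfl | rfl
  · exact Subgroup.mem_map_of_mem c.φ (one_mem _)
  · exact Subgroup.mem_map_of_mem c.φ (Subgroup.mem_zpowers _)

theorem quotient_iso (hlt : c.P ≠ ⊤)
    [hn : ((Subgroup.center S).subgroupOf (normalizer (c.P : Set S))).Normal] :
    Nonempty (W ≃* normalizer (c.P : Set S) ⧸
      (Subgroup.center S).subgroupOf (normalizer (c.P : Set S))) := by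
  obtain ⟨h, hh, hhP, hall, m, hm, hhh⟩ := c.exists_sigma hlt
  set N := normalizer (c.P : Set S)
  let π := QuotientGroup.mk' ((Subgroup.center S).subgroupOf N)
  let Φ : W →* N ⧸ (Subgroup.center S).subgroupOf N :=
    π.comp (c.φ.codRestrict N c.phi_mem_norm)
  let G : N ⧸ (Subgroup.center S).subgroupOf N := π ⟨h, hh⟩
  have hΦ : ∀ v w : W, v⁻¹ * w ∈ Zl → Φ v = Φ w := fun v w hvw => by
    have : Φ (v⁻¹ * w) = 1 := (QuotientGroup.eq_one_iff _).mpr (c.zl_center hlt hvw)
    rwa [map_mul, map_inv, inv_mul_eq_one] at this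
  have hGG : G * G = 1 := by
    rw [← map_mul, QuotientGroup.mk'_apply, QuotientGroup.eq_one_iff, Subgroup.mem_subgroupOf]
    show h * h ∈ _
    rw [hhh]
    exact c.zl_center hlt hm
  have hGi : G⁻¹ = G := inv_eq_of_mul_eq_one_right hGG
  have hconj : ∀ x : W, G * Φ x = Φ (sig x) * G := by
    have key : (MulAut.conj G).toMonoidHom.comp Φ = Φ.comp sig := by
      refine MonoidHom.eq_of_eqOn_dense closure_gens fun x hx => ?_
      show G * Φ x * G⁻¹ = Φ (sig x)
      rw [hΦ (sig x) (c.pull hh x) (hall x (by simpa using hx))]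
      show π ⟨h, hh⟩ * π _ * (π ⟨h, hh⟩)⁻¹ = π _
      rw [← map_inv, ← map_mul, ← map_mul]
      congr 1
      exact Subtype.ext (c.phi_pull hh x).symm
    intro x
    have := congrArg (fun f : W →* _ => f x) key
    exact mul_inv_eq_iff_eq_mul.mp this
  obtain ⟨f1, f2, f3, f4, f5, f6, f7, f8, f9, f10, f11, f12⟩ := model_facts
  set u := Φ t with hu
  set v := Φ m0 * G with hv
  set w := Φ a2 with hw
  have h1 : ∀ x : W, x ∈ Zl → Φ x = 1 := fun x hx => (hΦ 1 x (by simpa using hx)).symm.trans (map_one Φ)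
  have hmul : ∀ x y : W, Φ x * G * (Φ y * G) = Φ (x * sig y) := fun x y => by
    calc Φ x * G * (Φ y * G) = Φ x * (G * Φ y) * G := by simp only [mul_assoc]
      _ = Φ x * Φ (sig y) * (G * G) := by rw [hconj]; simp only [mul_assoc]
      _ = _ := by rw [hGG, mul_one, map_mul]
  have huu : u * u = 1 := by rw [hu, ← map_mul, show t * t = 1 by decide, map_one]
  have hvv : v * v = 1 := by rw [hv, hmul]; exact h1 _ f1
  have hww : w * w = 1 := by rw [hw, ← map_mul, f4, map_one]
  have hwi : w⁻¹ = w := inv_eq_of_mul_eq_one_right hww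
  have huv : (u * v) ^ 4 = 1 := by
    have e : u * v = Φ (t * m0) * G := by rw [hu, hv, map_mul, mul_assoc]
    rw [e, show 4 = 2 * 2 from rfl, pow_mul, pow_two, pow_two, hmul, ← map_mul]
    exact h1 _ f2
  set f := homD u v huu hvv huv
  let f' : D →* _ := (MulAut.conj w).toMonoidHom.comp f
  have hf' : ∀ x, f' x = w * f x * w := fun x => by
    show w * f x * w⁻¹ = _
    rw [hwi]
  have hwv : w * v * w = Φ (a2 * m0 * sig a2) * G := by
    rw [hw, hv, ← mul_assoc, ← map_mul]
    rw [mul_assoc, hconj a2, ← mul_assoc, ← map_mul]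
  have hwu : w * u * w = Φ (a2 * t * a2) := by rw [hu, hw, map_mul, map_mul]
  have hgen : ∀ x y : D, Commute (f x) (f' y) := by
    have hb : ∀ p ∈ [u, v], ∀ q ∈ [w * u * w, w * v * w], Commute p q := by
      intro p hp q hq
      simp only [List.mem_cons, List.not_mem_nil, or_false] at hp hq
      rcases hp with rfl | rfl <;> rcases hq with rfl | rfl
      · rw [hwu]
        exact (show Commute t (a2 * t * a2) from f5).map Φ
      · rw [hwv, hu]
        show Φ t * (Φ _ * G) = Φ _ * G * Φ t
        rw [mul_assoc (Φ (a2 * m0 * sig a2)), hconj, ← mul_assoc, ← mul_assoc, ← map_mul, ← map_mul]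
        rw [hΦ _ _ f6]
      · rw [hwu, hv]
        show Φ m0 * G * Φ _ = Φ _ * (Φ m0 * G)
        rw [mul_assoc, hconj, ← mul_assoc, ← mul_assoc, ← map_mul, ← map_mul, hΦ _ _ f7]
      · rw [hwv, hv]
        show Φ m0 * G * (Φ _ * G) = Φ _ * G * (Φ m0 * G)
        rw [hmul, hmul, hΦ _ _ f8]
    have hpow : ∀ x : D, ∃ i j : ℕ, f x = (u * v) ^ i * u ^ j := fun x => by
      obtain ⟨k, l, rfl⟩ := D_gen x
      exact ⟨k, l, by rw [map_mul, map_pow, map_pow, map_mul, (homD_a u v huu hvv huv).1,
        (homD_a u v huu hvv huv).2]⟩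
    intro x y
    obtain ⟨i, j, ei⟩ := hpow x
    obtain ⟨i', j', ej⟩ := hpow y
    have ej' : f' y = ((w * u * w) * (w * v * w)) ^ i' * (w * u * w) ^ j' := by
      show (MulAut.conj w) (f y) = _
      rw [ej, map_mul, map_pow, map_pow, map_mul]
      simp only [MulAut.conj_apply, hwi]
    rw [ei, ej']
    have c1 : ∀ q ∈ [w * u * w, w * v * w], Commute ((u * v) ^ i * u ^ j) q := fun q hq =>
      ((((hb u (by simp) q hq).mul_left (hb v (by simp) q hq)).pow_left i).mul_left
        ((hb u (by simp) q hq).pow_left j))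
    exact (((c1 _ (by simp)).mul_right (c1 _ (by simp))).pow_right i').mul_right
      ((c1 _ (by simp)).pow_right j')
  have hsw : ∀ x, w * f' x = f x * w ∧ w * f x = f' x * w := fun x => by
    rw [hf']
    refine ⟨?_, ?_⟩
    · calc w * (w * f x * w) = (w * w) * (f x * w) := by simp only [mul_assoc]
        _ = f x * w := by rw [hww, one_mul]
    · rw [mul_assoc, hww, mul_one]
  let ψ : W →* N ⧸ (Subgroup.center S).subgroupOf N := MonoidHom.mk'
    (fun x => f x.x * f' x.y * (if x.e then w else 1)) (by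
      rintro ⟨x, y, (_ | _)⟩ ⟨x', y', (_ | _)⟩
      · simp only [mul_def, Bool.false_eq_true, if_false, map_mul, mul_one]
        calc f x * f x' * (f' y * f' y') = f x * (f x' * f' y) * f' y' := by simp only [mul_assoc]
          _ = _ := by rw [(hgen x' y).eq]; simp only [mul_assoc]
      · simp only [mul_def, Bool.false_eq_true, if_false, if_true, map_mul, mul_one]
        calc f x * f x' * (f' y * f' y') * w = f x * (f x' * f' y) * f' y' * w := by simp only [mul_assoc]
          _ = _ := by rw [(hgen x' y).eq]; simp only [mul_assoc]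
      · simp only [mul_def, if_true, Bool.not_false, map_mul, Bool.false_eq_true, if_false, mul_one]
        calc f x * f y' * (f' y * f' x') * w = f x * (f y' * f' y) * (f' x' * w) := by simp only [mul_assoc]
          _ = f x * (f' y * f y') * (w * f x') := by rw [(hgen y' y).eq, (hsw x').2]
          _ = f x * f' y * (f y' * w) * f x' := by simp only [mul_assoc]
          _ = f x * f' y * (w * f' y') * f x' := by rw [(hsw y').1]
          _ = f x * f' y * w * (f' y' * f x') := by simp only [mul_assoc]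
          _ = _ := by rw [← (hgen x' y').eq]
      · simp only [mul_def, if_true, Bool.not_true, map_mul, Bool.false_eq_true, if_false, mul_one]
        calc f x * f y' * (f' y * f' x') = f x * (f y' * f' y) * f' x' := by simp only [mul_assoc]
          _ = f x * f' y * (f y' * f' x') := by rw [(hgen y' y).eq]; simp only [mul_assoc]
          _ = f x * f' y * (f y' * f' x') * (w * w) := by rw [hww, mul_one]
          _ = f x * f' y * (f y' * (f' x' * w)) * w := by simp only [mul_assoc]
          _ = f x * f' y * (f y' * (w * f x')) * w := by rw [(hsw x').2]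
          _ = f x * f' y * (f y' * w) * f x' * w := by simp only [mul_assoc]
          _ = f x * f' y * (w * f' y') * f x' * w := by rw [(hsw y').1]
          _ = f x * f' y * w * (f' y' * f x') * w := by simp only [mul_assoc]
          _ = _ := by rw [← (hgen x' y').eq]; simp only [mul_assoc])
  have e1 : ψ a1 = u := by
    show f a * f' 1 * 1 = u
    rw [map_one, mul_one, mul_one, (homD_a u v huu hvv huv).1]
  have e2 : ψ b1 = v := by
    show f b * f' 1 * 1 = v
    rw [map_one, mul_one, mul_one, (homD_a u v huu hvv huv).2]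
  have e3 : ψ t = w := by
    show f 1 * f' 1 * w = w
    rw [map_one, map_one, one_mul, one_mul]
  have ht : Φ t ∈ ψ.range := ⟨a1, e1⟩
  have ha2 : Φ a2 ∈ ψ.range := ⟨t, e3⟩
  have hvr : v ∈ ψ.range := ⟨b1, e2⟩
  have ha1 : Φ a1 ∈ ψ.range := by rw [← f9, map_mul, map_mul]; exact mul_mem (mul_mem ht ha2) ht
  have hb1z : Φ (b1 * za) ∈ ψ.range := by
    have e : v * Φ a2 * v⁻¹ = Φ (b1 * za) := by
      rw [hv, mul_inv_rev, hGi, mul_assoc (Φ m0), hconj, ← f10, map_mul, map_mul, map_inv]
      simp only [mul_assoc]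
      rw [← mul_assoc G G, hGG, one_mul]
    rw [← e]; exact mul_mem (mul_mem hvr ha2) (inv_mem hvr)
  have hb1 : Φ b1 ∈ ψ.range := by
    have := mul_mem hb1z (mul_mem (mul_mem ha1 hb1z) (mul_mem ha1 hb1z))
    rwa [← map_mul, ← map_mul, ← map_mul, f11] at this
  have hb2 : Φ b2 ∈ ψ.range := by rw [← f12, map_mul, map_mul]; exact mul_mem (mul_mem ht hb1) ht
  have hΦr : ∀ x : W, Φ x ∈ ψ.range := by
    intro x
    have : Subgroup.closure ({a1, b1, a2, b2, t} : Set W) ≤ ψ.range.comap Φ := by
      rw [Subgroup.closure_le]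
      intro y hy
      simp only [Set.mem_insert_iff, Set.mem_singleton_iff] at hy
      rcases hy with rfl | rfl | rfl | rfl | rfl <;> assumption
    exact this (closure_gens ▸ Subgroup.mem_top x)
  have hG : G ∈ ψ.range := by
    have := mul_mem (inv_mem (hΦr m0)) hvr
    rwa [hv, inv_mul_cancel_left] at this
  have hrel := c.relIndex_two hlt
  have hsurj : Function.Surjective ψ := by
    intro q
    obtain ⟨⟨g, hg⟩, rfl⟩ := QuotientGroup.mk'_surjective _ q
    by_cases hgP : g ∈ c.P
    · obtain ⟨x, rfl⟩ := hgP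
      exact hΦr x
    · have h2 := (Subgroup.mul_mem_iff_of_index_two (H := c.P.subgroupOf N) hrel
        (a := ⟨g, hg⟩) (b := ⟨h, hh⟩)).mpr ⟨fun h' => absurd h' hgP, fun h' => absurd h' hhP⟩
      obtain ⟨x, hx⟩ := h2
      have e : π ⟨g, hg⟩ = Φ x * G := by
        rw [show Φ x = π (⟨g, hg⟩ * ⟨h, hh⟩) from congrArg π (Subtype.ext hx), map_mul, mul_assoc]
        show _ = _ * (G * G)
        rw [hGG, mul_one]
      rw [e]
      exact mul_mem (hΦr x) hG
  have hcard : Nat.card W = Nat.card (N ⧸ (Subgroup.center S).subgroupOf N) := by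
    have h3 : Nat.card c.P = 128 := by
      rw [show c.P = c.φ.range from rfl, Nat.card_congr (MonoidHom.ofInjective c.inj).symm.toEquiv, card_W]
    have h4 := Subgroup.card_mul_index ((Subgroup.center S).subgroupOf N)
    have h5 := Subgroup.card_mul_index (c.P.subgroupOf N)
    rw [Nat.card_congr (Subgroup.subgroupOfEquivOfLe Subgroup.le_normalizer).toEquiv, h3,
      show (c.P.subgroupOf N).index = 2 from hrel] at h5
    rw [Nat.card_congr (Subgroup.subgroupOfEquivOfLe (Subgroup.center_le_centralizer _ |>.trans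
      (Subgroup.centralizer_le_normalizer _))).toEquiv, c.center_card hlt, ← h5] at h4
    rw [card_W, ← Subgroup.index_eq_card]
    omega
  exact ⟨MulEquiv.ofBijective ψ ((Nat.bijective_iff_surjective_and_card ψ).mpr ⟨hsurj, hcard⟩)⟩

end Ctx

end Cfsg.Agent.FG78.WreathD8
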